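import Cfsg.Agent.H58.Rec.Tools
import Cfsg.Agent.H163.PG.HN
import Cfsg.Agent.H845.HNNineteen
import Cfsg.Agent.H569.HNThree
import Cfsg.Agent.H904.HSIso
import Cfsg.Agent.H547.SelfCent.Base

/-!
# Element orders of the Harada–Norton group (helper839)

* `seven_ord` : the element orders divisible by 7 are 7, 14, 21, 35;
* `no_eighteen`, `no_thirtythree` ;
* `sc_nineteen` : elements of order 19 are self-centralizing.
-/

set_option autoImplicit false

namespace Cfsg.Agent.H839.Rec.HN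

open Subgroup Cfsg
open Cfsg.Agent.H58.Rec
open Cfsg.Agent.H845.HNNineteen (exists_conj_mem)

theorem card_HN : Nat.card Spor.HN = 273030912000000 := Cfsg.Agent.S1701.result.2

theorem fin_HN : Finite Spor.HN := Nat.finite_of_card_ne_zero (by rw [card_HN]; norm_num)

theorem order_conj {G : Type*} [Group G] (a g : G) : orderOf (a * g * a⁻¹) = orderOf g :=
  orderOf_injective (MulAut.conj a).toMonoidHom (MulAut.conj a).injective g

/-- two elements of prime order generating the same subgroup -/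
theorem mem_zpowers_symm {G : Type*} [Group G] {r : ℕ} (hr : r.Prime) {x z : G} (hx : orderOf x = r)
    (hz : orderOf z = r) (h : z ∈ zpowers x) : x ∈ zpowers z := by
  have hfx : Finite (zpowers x) := Nat.finite_of_card_ne_zero (by rw [Nat.card_zpowers, hx]; exact hr.ne_zero)
  have h1 : zpowers z = zpowers x := by
    apply eq_of_le_of_card_ge
    · rwa [zpowers_le]
    · rw [Nat.card_zpowers, Nat.card_zpowers, hx, hz]
  rw [h1]
  exact mem_zpowers x

theorem perm_cases : ∀ σ : Equiv.Perm (Fin 5), Equiv.Perm.sign σ = 1 → σ = 1 ∨ σ ^ 2 = 1 ∨ σ ^ 3 = 1 ∨ σ ^ 5 = 1 := by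
  decide +kernel

theorem ord_a5 (k : alternatingGroup (Fin 5)) : orderOf k ∈ [1, 2, 3, 5] := by
  have h1 : ∀ (p : ℕ), p.Prime → (k : Equiv.Perm (Fin 5)) ^ p = 1 → orderOf k = 1 ∨ orderOf k = p := by
    intro p hp h
    have h2 : k ^ p = 1 := Subtype.ext h
    exact (Nat.dvd_prime hp).1 (orderOf_dvd_of_pow_eq_one h2)
  simp only [List.mem_cons, List.not_mem_nil, or_false]
  rcases perm_cases k k.2 with h | h | h | h
  · exact Or.inl (orderOf_eq_one_iff.2 (Subtype.ext h))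
  · have := h1 2 (by norm_num) h
    omega
  · have := h1 3 (by norm_num) h
    omega
  · have := h1 5 (by norm_num) h
    omega

/-- **The element orders divisible by 7.** -/
theorem seven_ord {g : Spor.HN} (h7 : 7 ∣ orderOf g) : ∃ d ∈ [1, 2, 3, 5], orderOf g = 7 * d := by
  have hfin := fin_HN
  obtain ⟨x, K, hx, ⟨e⟩, hcK, hC⟩ := Cfsg.Agent.H845.HNSeven.hn_seven
  obtain ⟨m, hm⟩ := h7
  have hm0 : 0 < m := Nat.pos_of_ne_zero (by rintro rfl; have := orderOf_pos g; omega)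
  have hz : orderOf (g ^ m) = 7 := by
    rw [orderOf_pow_of_dvd hm0.ne' (by rw [hm]; exact dvd_mul_left m 7), hm]
    exact Nat.mul_div_cancel _ hm0
  obtain ⟨a, ha⟩ := exists_conj_mem (by norm_num : Nat.Prime 7) (by rw [card_HN]; norm_num) hx hz
  have hz' : orderOf (a * g ^ m * a⁻¹) = 7 := by rw [order_conj, hz]
  have hxz := mem_zpowers_symm (by norm_num) hx hz' ha
  obtain ⟨w, hw⟩ : ∃ w, w = a * g * a⁻¹ := ⟨_, rfl⟩
  have how : orderOf w = 7 * m := by rw [hw, order_conj, hm]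
  have hwm : a * g ^ m * a⁻¹ = w ^ m := by rw [hw, conj_pow]
  rw [hwm] at hxz
  have hwx : Commute w x := by
    obtain ⟨k, hk⟩ := mem_zpowers_iff.1 hxz
    rw [← hk]
    exact ((Commute.refl w).pow_right m).zpow_right k
  -- the structure of the centralizer
  set C := centralizer ({x} : Set Spor.HN) with hCd
  have hKC : K ≤ C := fun k hk => mem_centralizer_singleton_iff.2 (hcK k hk)
  have hxC : x ∈ C := mem_centralizer_singleton_iff.2 rfl
  let μ : zpowers x × K → C := fun p => ⟨p.1 * p.2, C.mul_mem (by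
    have : zpowers x ≤ C := by rw [zpowers_le]; exact hxC
    exact this p.1.2) (hKC p.2.2)⟩
  have hcardK : Nat.card K = 60 := by
    rw [Nat.card_congr e.toEquiv, nat_card_alternatingGroup, Nat.card_fin]
    rfl
  have hμi : Function.Injective μ := by
    rintro ⟨u1, k1⟩ ⟨u2, k2⟩ h
    have h1 : (u1 : Spor.HN) * k1 = u2 * k2 := congrArg Subtype.val h
    have h2 : (u2 : Spor.HN)⁻¹ * u1 = k2 * (k1 : Spor.HN)⁻¹ := by
      have h3 : (u2 : Spor.HN)⁻¹ * (u1 * k1) * (k1 : Spor.HN)⁻¹ = (u2 : Spor.HN)⁻¹ * (u2 * k2) * (k1 : Spor.HN)⁻¹ := by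
        rw [h1]
      calc (u2 : Spor.HN)⁻¹ * u1 = (u2 : Spor.HN)⁻¹ * (u1 * k1) * (k1 : Spor.HN)⁻¹ := by group
        _ = (u2 : Spor.HN)⁻¹ * (u2 * k2) * (k1 : Spor.HN)⁻¹ := h3
        _ = _ := by group
    have h3 : orderOf ((u2 : Spor.HN)⁻¹ * u1) ∣ 7 := by
      have h4 := orderOf_dvd_natCard (u2⁻¹ * u1)
      rw [Nat.card_zpowers, hx, ← Subgroup.orderOf_coe] at h4
      exact h4
    have h5 : orderOf ((u2 : Spor.HN)⁻¹ * u1) ∣ 60 := by
      rw [h2]
      have h4 := orderOf_dvd_natCard (k2 * k1⁻¹)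
      rw [hcardK, ← Subgroup.orderOf_coe] at h4
      exact h4
    have h6 : orderOf ((u2 : Spor.HN)⁻¹ * u1) ∣ 1 := by
      have := Nat.dvd_gcd h3 h5
      simpa using this
    have h7 : (u2 : Spor.HN)⁻¹ * u1 = 1 := orderOf_eq_one_iff.1 (Nat.dvd_one.1 h6)
    have h8 : (u1 : Spor.HN) = u2 := (inv_mul_eq_one.1 h7).symm
    have h9 : (k1 : Spor.HN) = k2 := by
      rw [h8] at h1
      exact mul_left_cancel h1
    exact Prod.ext (Subtype.ext h8) (Subtype.ext h9)
  have hμs : Function.Surjective μ := by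
    apply (Function.Injective.bijective_of_nat_card_le hμi ?_).2
    rw [Nat.card_prod, Nat.card_zpowers, hx, hcardK, hC]
  obtain ⟨⟨u, k⟩, huk⟩ := hμs ⟨w, mem_centralizer_singleton_iff.2 hwx.eq⟩
  have huk' : (u : Spor.HN) * k = w := congrArg Subtype.val huk
  have hcom : Commute (u : Spor.HN) k := by
    obtain ⟨i, hi⟩ := mem_zpowers_iff.1 u.2
    rw [← hi]
    have h1 : Commute (k : Spor.HN) x := hcK k k.2
    exact (h1.zpow_right i).symm
  have hu7 : (u : Spor.HN) ^ 7 = 1 := by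
    have h4 : u ^ 7 = 1 := by
      rw [← hx, ← Nat.card_zpowers]
      exact pow_card_eq_one'
    exact congrArg Subtype.val h4
  have hw7 : w ^ 7 = (k : Spor.HN) ^ 7 := by
    rw [← huk', hcom.mul_pow, hu7, one_mul]
  have h8 : orderOf (w ^ 7) = m := by
    rw [orderOf_pow_of_dvd (by norm_num) (by rw [how]; exact dvd_mul_right 7 m), how]
    exact Nat.mul_div_cancel_left _ (by norm_num)
  have h9 : m = orderOf (e (k ^ 7)) := by
    rw [MulEquiv.orderOf_eq, ← Subgroup.orderOf_coe, ← h8, hw7]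
    rfl
  exact ⟨m, h9 ▸ ord_a5 _, hm⟩

theorem no_seven {n : ℕ} (h7 : 7 ∣ n) (hn : n ≠ 7 ∧ n ≠ 14 ∧ n ≠ 21 ∧ n ≠ 35) : ¬ HasOrd Spor.HN n := by
  rintro ⟨g, rfl⟩
  obtain ⟨d, hd, h⟩ := seven_ord h7
  simp only [List.mem_cons, List.not_mem_nil, or_false] at hd
  omega

/-- **There are no elements of order 18.** -/
theorem no_eighteen : ¬ HasOrd Spor.HN 18 := by
  rintro ⟨g, hg⟩
  have h1 : orderOf (g ^ 2) = 9 := by
    rw [orderOf_pow_of_dvd (by norm_num) (by rw [hg]; norm_num), hg]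
  have h2 : orderOf (g ^ 9) = 2 := by
    rw [orderOf_pow_of_dvd (by norm_num) (by rw [hg]; norm_num), hg]
  have h3 := Cfsg.Agent.H569.HNThree.exp_three (y := g ^ 2) (t := g ^ 9)
    ⟨2, by rw [show 3 ^ 2 = 9 by norm_num, ← h1, pow_orderOf_eq_one]⟩ h2 (by rw [← pow_add, ← pow_add])
  have h4 := orderOf_dvd_of_pow_eq_one h3
  rw [h1] at h4
  norm_num at h4

/-- **There are no elements of order 33.** -/
theorem no_thirtythree : ¬ HasOrd Spor.HN 33 := by
  rintro ⟨y, hy⟩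
  have hfin := fin_HN
  have f11 : Fact (Nat.Prime 11) := ⟨by norm_num⟩
  have h1 : orderOf (y ^ 3) = 11 := by
    rw [orderOf_pow_of_dvd (by norm_num) (by rw [hy]; norm_num), hy]
  obtain ⟨g, hg⟩ := Cfsg.Agent.H163.PG.HNR.exists_conj h1 (by norm_num)
  obtain ⟨w, hw⟩ : ∃ w, w = g⁻¹ * y * g := ⟨_, rfl⟩
  have how : orderOf w = 33 := by
    have h2 := order_conj g⁻¹ y
    rw [inv_inv] at h2
    rw [hw, h2, hy]
  have hw3 : g⁻¹ * y ^ 3 * g = w ^ 3 := by
    have h2 := conj_pow (a := g⁻¹) (b := y) (i := 3)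
    rw [inv_inv] at h2
    rw [hw, h2]
  rw [hw3] at hg
  have h2 : orderOf (w ^ 3) = 11 := by
    rw [orderOf_pow_of_dvd (by norm_num) (by rw [how]; norm_num), how]
  have hwH := Cfsg.Agent.H163.PG.HNR.mem_H_of_comm hg h2 (y := w) (by rw [← pow_succ, ← pow_succ'])
  obtain ⟨K, f, -, hK, hf⟩ := Cfsg.Agent.H163.PG.HNR.exists_hs
  have hwK := Cfsg.Agent.H163.PG.HNR.mem_of_odd hK (x := ⟨w, hwH⟩) (r := 33) (by decide)
    (by rw [Subgroup.orderOf_mk, how])
  have hoK : orderOf (⟨⟨w, hwH⟩, hwK⟩ : K) = 33 := by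
    rw [Subgroup.orderOf_mk, Subgroup.orderOf_mk, how]
  have h3 : orderOf (f ⟨⟨w, hwH⟩, hwK⟩) = 33 := by
    rw [orderOf_map_eq f (by rw [hoK, hf]; norm_num), hoK]
  generalize f ⟨⟨w, hwH⟩, hwK⟩ = z at h3
  have h4 : orderOf (z ^ 3) = 11 := by
    rw [orderOf_pow_of_dvd (by norm_num) (by rw [h3]; norm_num), h3]
  have h5 := Cfsg.Agent.H904.HSIso.card_eleven ⟨MulEquiv.refl _⟩ h4
  have h6 : z ∈ centralizer ({z ^ 3} : Set Spor.HS) := by
    rw [mem_centralizer_singleton_iff, ← pow_succ, ← pow_succ']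
  have h7 := orderOf_dvd_natCard (⟨z, h6⟩ : centralizer ({z ^ 3} : Set Spor.HS))
  rw [Subgroup.orderOf_mk, h5, h3] at h7
  norm_num at h7

/-- **Elements of order 19 are self-centralizing.** -/
theorem sc_nineteen : H537.Cop.SC 19 Spor.HN := by
  have hfin := fin_HN
  obtain ⟨x, hx, hc⟩ := Cfsg.Agent.H845.HNNineteen.hn_nineteen
  intro y hy
  rw [H547.SelfCent.card_cent_eq (r := 19) (by norm_num) (by rw [card_HN]; norm_num) hy hx, hc]

end Cfsg.Agent.H839.Rec.HN
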