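import Cfsg.Agent.H839.Rec.AltTwelve
import Cfsg.Agent.H839.Rec.HNFacts
import Cfsg.Agent.H163.PG.Ord

/-!
# S3484, the row `HN`: recognition by the set of element orders (helper839)

The good prime is 19. The candidates for the socle are `J₁`, `HN`, `U₃(8)`, `L₃(7)`, `L₄(7)`, `L₃(11)`, `L₂(19)`, `U₃(19)`.
-/

set_option autoImplicit false

namespace Cfsg.Agent.H839.Rec.HN

open Subgroup Cfsg
open Cfsg.Agent.H58.Rec Cfsg.Agent.OrdDiv Cfsg.Agent.H455.Isolated Cfsg.Agent.H436
open Cfsg.Agent.CpAutHN.Alt (A12 Φ Φ_inj)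

universe u v w

theorem iso_nineteen : Isolated Spor.HN 19 := by
  have := fin_HN
  exact isolated_of_sc (by norm_num) sc_nineteen

theorem exists_f {S : Type*} [Group S] (h : Spor.IsoHN S) : ∃ f : A12 →* S, Function.Injective f := by
  obtain ⟨e⟩ := h
  have hs : IsSimpleGroup Spor.HN := Cfsg.Agent.S1701.result.1
  exact ⟨e.symm.toMonoidHom.comp Φ, e.symm.injective.comp Φ_inj⟩

theorem nine_HN : HasOrd Spor.HN 9 := by
  obtain ⟨f, hf⟩ := exists_f (S := Spor.HN) ⟨MulEquiv.refl _⟩
  exact ⟨f c9, by rw [orderOf_injective f hf, order_c9]⟩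

theorem good_HN : Good Spor.HN 19 where
  prime := by norm_num
  ne2 := by norm_num
  dvd := by rw [card_HN]; norm_num
  iso := iso_nineteen
  ex := ⟨9, by decide, by norm_num, nine_HN, no_eighteen⟩

theorem primes_HN {p : ℕ} (hp : p.Prime) (h : p ∣ Nat.card Spor.HN) : p ∈ [2, 3, 5, 7, 11, 19] := by
  rw [card_HN, show 273030912000000 = 2 ^ 14 * (3 ^ 6 * (5 ^ 6 * (7 * (11 * 19)))) by norm_num] at h
  simp only [List.mem_cons, List.not_mem_nil, or_false]
  have key : ∀ q k : ℕ, q.Prime → p ∣ q ^ k → p = q := fun q k hq hd =>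
    (Nat.prime_dvd_prime_iff_eq hp hq).1 (hp.dvd_of_dvd_pow hd)
  rcases hp.dvd_mul.1 h with h | h
  · exact Or.inl (key 2 14 (by norm_num) h)
  rcases hp.dvd_mul.1 h with h | h
  · exact Or.inr (Or.inl (key 3 6 (by norm_num) h))
  rcases hp.dvd_mul.1 h with h | h
  · exact Or.inr (Or.inr (Or.inl (key 5 6 (by norm_num) h)))
  rcases hp.dvd_mul.1 h with h | h
  · exact Or.inr (Or.inr (Or.inr (Or.inl ((Nat.prime_dvd_prime_iff_eq hp (by norm_num)).1 h))))
  rcases hp.dvd_mul.1 h with h | h
  · exact Or.inr (Or.inr (Or.inr (Or.inr (Or.inl ((Nat.prime_dvd_prime_iff_eq hp (by norm_num)).1 h)))))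
  · exact Or.inr (Or.inr (Or.inr (Or.inr (Or.inr ((Nat.prime_dvd_prime_iff_eq hp (by norm_num)).1 h)))))

theorem no_sq {p : ℕ} (h : ¬ p ^ 2 ∣ Nat.card Spor.HN) : ¬ HasOrd Spor.HN (p ^ 2) := by
  rintro ⟨g, hg⟩
  exact h (hg ▸ orderOf_dvd_natCard g)

theorem center_of {S K : Type*} [Group S] [Group K] [IsSimpleGroup S] (hna : ¬ IsMulCommutative S) (e : S ≃* K) :
    center K = ⊥ := by
  have hc : center S = ⊥ := by
    rcases (inferInstance : (center S).Normal).eq_bot_or_eq_top with h | h
    · exact h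
    · exfalso
      apply hna
      refine ⟨⟨fun a b => ?_⟩⟩
      have h1 : b ∈ center S := h ▸ mem_top b
      exact mem_center_iff.1 h1 a
  rw [eq_bot_iff_forall]
  intro x hx
  have h1 : e.symm x ∈ center S := by
    rw [mem_center_iff] at hx ⊢
    intro g
    apply e.injective
    rw [map_mul, map_mul, e.apply_symm_apply]
    exact hx (e g)
  rw [hc, mem_bot] at h1
  rw [← e.apply_symm_apply x, h1, map_one]

/-- **The row for the model.** -/
theorem rec_model (hN : NameHyp.{u}) {G : Type u} [Group G] [Finite G] (h : Same G Spor.HN) :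
    Nonempty (G ≃* Spor.HN) := by
  have hfin := fin_HN
  have hG19 : Good G 19 := good_HN.of_same h
  have n7 : ∀ n, 7 ∣ n → (n ≠ 7 ∧ n ≠ 14 ∧ n ≠ 21 ∧ n ≠ 35) → ¬ HasOrd G n := fun n h1 h2 h3 =>
    no_seven h1 h2 ((h n).1 h3)
  have n18 : ¬ HasOrd G 18 := fun h3 => no_eighteen ((h _).1 h3)
  have n33 : ¬ HasOrd G 33 := fun h3 => no_thirtythree ((h _).1 h3)
  have hsol : ¬ Group.IsSolvable G :=
    not_solvable_of_same h (r := 7) (s := 11) (t := 19) (by norm_num) (by norm_num) (by norm_num) (by norm_num)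
      (by norm_num) (by norm_num) (by rw [card_HN]; norm_num) (by rw [card_HN]; norm_num) (by rw [card_HN]; norm_num)
      (no_seven (by norm_num) (by norm_num)) (no_seven (by norm_num) (by norm_num))
      (by
        have h1 := isolated_iff.1 iso_nineteen 11 (by norm_num) (by norm_num)
        rwa [mul_comm] at h1)
  have hdv : ∀ p : ℕ, p.Prime → (p ∣ Nat.card G ↔ p ∣ Nat.card Spor.HN) := fun p hp => dvd_of_same h hp
  have h2 : 2 ∣ Nat.card G := (hdv 2 Nat.prime_two).2 (by rw [card_HN]; norm_num)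
  have h3G : 3 ∣ Nat.card G := (hdv 3 (by norm_num)).2 (by rw [card_HN]; norm_num)
  have h7G : 7 ∣ Nat.card G := (hdv 7 (by norm_num)).2 (by rw [card_HN]; norm_num)
  have h11G : 11 ∣ Nat.card G := (hdv 11 (by norm_num)).2 (by rw [card_HN]; norm_num)
  obtain ⟨X, _, _, π, S, hR⟩ := exists_red hsol h2 hG19
  have hr := hR 19 hG19
  have := hr.normal
  have := hr.simple
  have hiS : Isolated S 19 := by
    rw [isolated_iff]
    intro s hs hs19 h3
    exact (isolated_iff.1 hG19.iso) s hs hs19 (hr.hasOrd' h3)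
  obtain ⟨g, hgl, hg⟩ := hr.exists_name hN (ps := [2, 3, 5, 7, 11, 19]) (rs := [19]) (B := 19) (N := 13) (by norm_num)
    (by decide) (by norm_num) (by decide) (fun q hq hd => primes_HN hq ((hdv q hq).1 hd)) (by
      intro q hq
      rw [List.mem_singleton] at hq
      subst hq
      exact hr.dvd)
  have hlst : ∀ g ∈ lst [2, 3, 5, 7, 11, 19] [19] 19 13, g = .hn ∨ g = .j1 ∨ g = .psu 3 8 ∨ g = .psl 3 7 ∨
      g = .psl 4 7 ∨ g = .psl 3 11 ∨ g = .psl 2 19 ∨ g = .psu 3 19 := by
    decide +kernel
  -- elements of order 9 in the quotient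
  have nine : ¬ 3 ∣ Nat.card π.ker → 9 ∣ Nat.card S * S.index := by
    intro h3
    obtain ⟨x, hx⟩ := (((h 9).2 nine_HN).map_of_coprime π (by
      rw [show 9 = 3 ^ 2 by norm_num]
      exact Nat.Coprime.pow_left 2 ((Nat.Prime.coprime_iff_not_dvd (by norm_num)).2 h3)))
    have hX : HasOrd X 9 := by
      refine ⟨x, ?_⟩
      exact hx
    obtain ⟨y, hy⟩ := hX
    rw [S.card_mul_index, ← hy]
    exact orderOf_dvd_natCard y
  rcases hlst g hgl with rfl | rfl | rfl | rfl | rfl | rfl | rfl | rfl
  · -- `HN`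
    have hreal : Spor.IsoHN S := hg.real
    have hcS : Nat.card S = 273030912000000 := by
      obtain ⟨e⟩ := hreal
      rw [Nat.card_congr e.toEquiv, card_HN]
    obtain ⟨f, hf⟩ := exists_f hreal
    have hF : HasFrob S 19 9 := hasFrob_of_isolated (by norm_num) hcS hiS (by norm_num) (by norm_num)
      (by norm_num) (by decide +kernel)
    have hF7 : HasFrob S 7 6 := frob_seven.of_injective f hf
    have hF8 : HasFrob S 2 7 := by
      obtain ⟨T, h1⟩ := frob_eight
      exact HasFrob.of_injective ⟨T, _, h1⟩ f hf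
    have hker : ∀ p : ℕ, p.Prime → p ∣ Nat.card G → ¬ p ∣ Nat.card π.ker := by
      intro p hp hpG
      have h3 := primes_HN hp ((hdv p hp).1 hpG)
      simp only [List.mem_cons, List.not_mem_nil, or_false] at h3
      rcases h3 with rfl | rfl | rfl | rfl | rfl | rfl
      · exact hr.kill' hp (by norm_num) (by norm_num) hF n18
      · exact hr.kill' hp (by norm_num) (by norm_num) hF7 n18
      · exact kill_five hr (S.subtype.comp f) (S.subtype_injective.comp hf) (n7 _ (by norm_num) (by norm_num))
          (n7 _ (by norm_num) (by norm_num))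
      · exact hr.kill' hp (by norm_num) (by norm_num) hF (n7 _ (by norm_num) (by norm_num))
      · exact hr.kill' hp (by norm_num) (by norm_num) hF8 (n7 _ (by norm_num) (by norm_num))
      · exact hr.not_dvd
    -- the index
    have hidx := hr.index_mem hcS (by decide +kernel)
    have hidl : ∀ i ∈ idxs 19 273030912000000, i = 1 ∨ i = 2 := by decide +kernel
    have h1 : S.index = 1 := by
      rcases hidl _ hidx with h1 | h1
      · exact h1
      · exfalso
        obtain ⟨e, he, he1, he2, -, he3⟩ := hr.index_dvd (by rw [hcS]; norm_num) (by rw [h1]; norm_num)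
        rw [hcS] at he1 he2
        have he18 : e ∈ Nat.divisors 18 := by
          rw [Nat.mem_divisors]
          exact ⟨he, by norm_num⟩
        have hek : ∀ e ∈ Nat.divisors 18, 19 * e ∣ 273030912000000 → 273030912000000 / (19 * e) % 19 = 1 → e = 9 := by
          decide +kernel
        have he9 := hek e he18 he1 he2
        subst he9
        rw [h1] at he3
        exact n18 (hr.hasOrd he3)
    rw [index_eq_one] at h1
    obtain ⟨e⟩ := hreal
    have e1 : G ≃* X := MulEquiv.ofBijective π ⟨injective_of hker, hr.surj⟩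
    have e2 : X ≃* S := (topEquiv (G := X)).symm.trans (MulEquiv.subgroupCongr h1.symm)
    exact ⟨(e1.trans e2).trans e⟩
  · -- `J₁`
    exfalso
    have hcS : Nat.card S = 175560 := by
      rw [hg.ord]
      decide +kernel
    have hF : HasFrob S 19 6 := hasFrob_of_isolated (by norm_num) hcS hiS (by norm_num) (by norm_num)
      (by norm_num) (by decide +kernel)
    have h9 := nine (hr.kill' (by norm_num) (by norm_num) (by norm_num) hF n18)
    have hidx := hr.index_mem hcS (by decide +kernel)
    have hidl : ∀ i ∈ idxs 19 175560, i = 1 ∨ i = 3 := by decide +kernel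
    rcases hidl _ hidx with h1 | h1
    · rw [hcS, h1] at h9
      norm_num at h9
    · obtain ⟨e, he, he1, he2, -, he3⟩ := hr.index_dvd (by rw [hcS]; norm_num) (by rw [h1]; norm_num)
      rw [hcS] at he1 he2
      have he18 : e ∈ Nat.divisors 18 := by
        rw [Nat.mem_divisors]
        exact ⟨he, by norm_num⟩
      have hek : ∀ e ∈ Nat.divisors 18, 19 * e ∣ 175560 → 175560 / (19 * e) % 19 = 1 → e = 6 := by
        decide +kernel
      have he9 := hek e he18 he1 he2
      subst he9
      rw [h1] at he3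
      exact n18 (hr.hasOrd he3)
  · -- `U₃(8)`
    exfalso
    have hcS : Nat.card S = 5515776 := by
      rw [hg.ord]
      decide +kernel
    have hF : HasFrob S 19 3 := hasFrob_of_isolated (by norm_num) hcS hiS (by norm_num) (by norm_num)
      (by norm_num) (by decide +kernel)
    exact hr.absurd_of hcS (r := 11) (by norm_num) h11G (hr.kill' (by norm_num) (by norm_num) (by norm_num) hF n33)
      (by decide +kernel)
  · -- `L₃(7)`
    exfalso
    have hcS : Nat.card S = 1876896 := by
      rw [hg.ord]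
      decide +kernel
    exact hr.absurd_of hcS (r := 11) (by norm_num) h11G (Red.kill_sq hr (by norm_num) (q := 7) (by norm_num) (by norm_num)
      (by rw [hcS]; norm_num) (n7 _ (by norm_num) (by norm_num)) (n7 _ (by norm_num) (by norm_num))) (by decide +kernel)
  · -- `L₄(7)`
    exfalso
    have hcS : Nat.card S = 2317591180800 := by
      rw [hg.ord]
      decide +kernel
    have hidx := hr.index_mem hcS (by decide +kernel)
    have hidl : idxs 19 2317591180800 = [] := by decide +kernel
    rw [hidl] at hidx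
    exact absurd hidx List.not_mem_nil
  · -- `L₃(11)`
    exfalso
    have hcS : Nat.card S = 212427600 := by
      rw [hg.ord]
      decide +kernel
    have h9 := nine (Red.kill_sq hr (by norm_num) (q := 11) (by norm_num) (by norm_num)
      (by rw [hcS]; norm_num) (fun h3 => no_sq (by rw [card_HN]; norm_num) ((h _).1 h3)) n33)
    obtain ⟨F, _, _, hF, ⟨e⟩⟩ : ∃ (F : Type) (_ : Field F) (_ : Fintype F), Fintype.card F = 11 ∧
      Nonempty (S ≃* Matrix.ProjectiveSpecialLinearGroup (Fin 3) F) := hg.real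
    have h3 := index_dvd_out S hr.cent
    rw [Cfsg.Agent.H548.Crit.card_out_congr e, Cfsg.Agent.H163.PG.card_out_psl (p := 11) (f := 1) (by norm_num) le_rfl
      (by rw [hF]; norm_num) le_rfl (center_of hr.nonab e), hF] at h3
    rw [hcS] at h9
    have h4 : S.index ∣ 2 := h3
    rcases (Nat.dvd_prime Nat.prime_two).1 h4 with h5 | h5 <;> rw [h5] at h9 <;> norm_num at h9
  · -- `L₂(19)`
    exfalso
    have hcS : Nat.card S = 3420 := by
      rw [hg.ord]
      decide +kernel
    have hF : HasFrob S 19 9 := hasFrob_of_isolated (by norm_num) hcS hiS (by norm_num) (by norm_num)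
      (by norm_num) (by decide +kernel)
    exact hr.absurd_of hcS (r := 7) (by norm_num) h7G (hr.kill' (by norm_num) (by norm_num) (by norm_num) hF
      (n7 _ (by norm_num) (by norm_num))) (by decide +kernel)
  · -- `U₃(19)`
    exfalso
    have hcS : Nat.card S = 16938986400 := by
      rw [hg.ord]
      decide +kernel
    have hk : ¬ 11 ∣ Nat.card π.ker := Red.kill_sq hr (by norm_num) (q := 19) (by norm_num) (by norm_num)
      (by rw [hcS]; norm_num) (fun h3 => no_sq (by rw [card_HN]; norm_num) ((h _).1 h3))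
      (isolated_iff.1 hG19.iso 11 (by norm_num) (by norm_num))
    obtain ⟨F, _, _, hF, ⟨e⟩⟩ : ∃ (F : Type) (_ : Field F) (_ : Fintype F), Fintype.card F = 19 ^ 2 ∧
      Nonempty (S ≃* PSU 3 F 19) := hg.real
    have h3 := index_dvd_out S hr.cent
    rw [Cfsg.Agent.H548.Crit.card_out_congr e, Cfsg.Agent.H163.PG.card_out_psu (p := 19) (f := 1) (by norm_num) le_rfl
      (by norm_num) hF le_rfl (by norm_num) (center_of hr.nonab e)] at h3
    have h4 : S.index ∣ 2 := h3
    have h5 : ¬ 11 ∣ S.index := fun h6 => absurd (h6.trans h4) (by norm_num)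
    have h6 := hr.dvd_simple (by norm_num) h11G hk h5
    rw [hcS] at h6
    norm_num at h6

/-- **The row `HN`.** -/
theorem rec_hn (hN : NameHyp.{u}) {G : Type u} [Group G] [Finite G] {M : Type v} [Group M] [Finite M]
    (hM : Spor.IsoHN M) (h : Same G M) : Nonempty (G ≃* M) := by
  obtain ⟨e⟩ := hM
  have h1 : Same G Spor.HN := fun n => (h n).trans ⟨fun h2 => h2.congr e, fun h2 => h2.congr e.symm⟩
  obtain ⟨e1⟩ := rec_model hN h1
  exact ⟨e1.trans e.symm⟩

end Cfsg.Agent.H839.Rec.HN
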