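import Cfsg.Agent.H58.Rec.Names

/-!
# Faster evaluation of the list of names (helper839)

`lst_fast` : in `lst ps rs B N` only the `q = p ^ f` such that all prime divisors of `q ^ 2 - 1` are in `ps` (and the Suzuki
groups) have to be looked at, and the test of smoothness does not need `Nat.log2` (slow in the kernel).
-/

set_option autoImplicit false

namespace Cfsg.Agent.H839.LstFast

open Cfsg Cfsg.Agent.OrdDiv Cfsg.Agent.H436 Cfsg.Agent.H559.PrimesLe Cfsg.Agent.H58.Rec

/-- the test -/
def tst (ps rs : List ℕ) (g : Grp) : Bool := pre ps rs g && sm ps (ordN g)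

/-- the Suzuki part of `candQ` -/
def candSz (B p f : ℕ) : List Grp :=
  if Nat.beq p 2 && Nat.beq (f % 2) 1 && Nat.ble 3 f && Nat.ble (f * 4) (B - 1) then [Grp.sz (p ^ f)] else []

theorem filter_map_nil (P : Grp → Bool) (l : List ℕ) (F : ℕ → Grp) (h : ∀ n, P (F n) = false) :
    (l.map F).filter P = [] := by
  rw [List.filter_eq_nil_iff]
  intro a ha
  obtain ⟨n, -, rfl⟩ := List.mem_map.1 ha
  rw [h]
  simp

theorem filter_ite_nil (P : Grp → Bool) (c : Prop) [Decidable c] (l : List Grp) (h : ∀ g ∈ l, P g = false) :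
    (if c then l else []).filter P = [] := by
  split_ifs
  · rw [List.filter_eq_nil_iff]
    intro a ha
    rw [h a ha]
    simp
  · rfl

theorem candQ_filter {ps rs : List ℕ} {B p f : ℕ} (h1 : Nat.beq (p ^ f) 1 = false)
    (h2 : sm ps ((p ^ f) ^ 2 - 1) = false) : (candQ B p f).filter (tst ps rs) = (candSz B p f).filter (tst ps rs) := by
  have key : ∀ g, qof g = p ^ f → tst ps rs g = false := by
    intro g hg
    unfold tst pre
    rw [hg, h1, h2]
    rfl
  unfold candQ candSz
  simp only [List.filter_append]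
  rw [filter_map_nil _ _ (fun n => Grp.psl n (p ^ f)) fun n => key _ rfl,
    filter_map_nil _ _ (fun n => Grp.psp n (p ^ f)) fun n => key _ rfl,
    filter_map_nil _ _ (fun n => Grp.oodd n (p ^ f)) fun n => key _ rfl,
    filter_map_nil _ _ (fun n => Grp.oplus n (p ^ f)) fun n => key _ rfl,
    filter_map_nil _ _ (fun n => Grp.ominus n (p ^ f)) fun n => key _ rfl,
    filter_map_nil _ _ (fun n => Grp.psu n (p ^ f)) fun n => key _ rfl,
    filter_ite_nil _ _ [Grp.g2 (p ^ f)] (by intro g hg; rw [List.mem_singleton] at hg; subst hg; exact key _ rfl),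
    filter_ite_nil _ _ [Grp.f4 (p ^ f), Grp.e6 (p ^ f), Grp.te6 (p ^ f), Grp.td4 (p ^ f)]
      (by intro g hg; simp only [List.mem_cons, List.not_mem_nil, or_false] at hg
          rcases hg with rfl | rfl | rfl | rfl <;> exact key _ rfl),
    filter_ite_nil _ _ [Grp.e7 (p ^ f)] (by intro g hg; rw [List.mem_singleton] at hg; subst hg; exact key _ rfl),
    filter_ite_nil _ _ [Grp.e8 (p ^ f)] (by intro g hg; rw [List.mem_singleton] at hg; subst hg; exact key _ rfl),
    filter_ite_nil _ _ [Grp.ree (p ^ f)] (by intro g hg; rw [List.mem_singleton] at hg; subst hg; exact key _ rfl),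
    filter_ite_nil _ _ [Grp.tf4 (p ^ f)] (by intro g hg; rw [List.mem_singleton] at hg; subst hg; exact key _ rfl)]
  simp only [List.nil_append, List.append_nil]

/-- the candidates for one prime; `S`, `T` are the smoothness test and the test -/
def fast (S : ℕ → Bool) (T : Grp → Bool) (B p : ℕ) : List Grp :=
  ((List.range B).filter fun f => Nat.ble 1 f).flatMap fun f =>
    bif Nat.beq (p ^ f) 1 || S ((p ^ f) ^ 2 - 1) then (candQ B p f).filter T else (candSz B p f).filter T

theorem lst_fast_aux (ps rs : List ℕ) (B N : ℕ) : lst ps rs B N =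
    ((((List.range N).filter fun n => Nat.ble 5 n).map Grp.alt ++ spor.map fun x => x.1).filter (tst ps rs)) ++
      ps.flatMap fun p => fast (sm ps) (tst ps rs) B p := by
  change (H559.PrimesLe.cand ps B N).filter (tst ps rs) = _
  unfold H559.PrimesLe.cand
  rw [List.filter_append]
  congr 1
  rw [List.filter_flatMap]
  congr 1
  funext p
  unfold fast
  rw [List.filter_flatMap]
  congr 1
  funext f
  rcases h1 : Nat.beq (p ^ f) 1 with _ | _
  · rcases h2 : sm ps ((p ^ f) ^ 2 - 1) with _ | _
    · rw [Bool.or_false, cond_false]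
      exact candQ_filter h1 h2
    · rfl
  · rfl

/-- the smoothness test without `Nat.log2` (which is slow in the kernel); `P = ps.prod ^ K`, `T = 2 ^ K` -/
def smK (ps : List ℕ) (P T N : ℕ) : Bool := bif Nat.ble T N then sm ps N else Nat.beq (P % N) 0

theorem smK_eq (ps : List ℕ) {K : ℕ} (hK : 0 < K) (N : ℕ) : smK ps (ps.prod ^ K) (2 ^ K) N = sm ps N := by
  unfold smK
  rcases hb : Nat.ble (2 ^ K) N with _ | _
  · rw [cond_false]
    have hlt : N < 2 ^ K := by
      by_contra h
      rw [Nat.ble_eq_true_of_le (not_lt.1 h)] at hb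
      exact absurd hb (by simp)
    unfold sm
    rw [Bool.eq_iff_iff, Nat.beq_eq, Nat.beq_eq]
    rcases Nat.eq_zero_or_pos N with h0 | h0
    · subst h0
      rw [Nat.mod_zero, Nat.mod_zero, pow_eq_zero_iff hK.ne', pow_eq_zero_iff (by omega)]
    · rw [← Nat.dvd_iff_mod_eq_zero, ← Nat.dvd_iff_mod_eq_zero]
      constructor
      · intro h
        rw [Nat.dvd_iff_prime_pow_dvd_dvd]
        intro p k hp hk
        rcases Nat.eq_zero_or_pos k with rfl | hk0
        · rw [pow_zero]; exact one_dvd _
        have h1 : p ∣ ps.prod := hp.dvd_of_dvd_pow (((dvd_pow_self p hk0.ne').trans hk).trans h)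
        have h3 : 2 ^ k ≤ N := (Nat.pow_le_pow_left hp.two_le k).trans (Nat.le_of_dvd h0 hk)
        have h4 : k ≤ Nat.log2 N := (Nat.le_log2 h0.ne').2 h3
        exact (pow_dvd_pow_of_dvd h1 k).trans (pow_dvd_pow _ (by omega))
      · intro h
        have h4 : Nat.log2 N < K := (Nat.log2_lt h0.ne').2 hlt
        exact h.trans (pow_dvd_pow _ (by omega))
  · rfl

/-- the test without `Nat.log2` -/
def tstK (ps rs : List ℕ) (P T : ℕ) (g : Grp) : Bool :=
  ((Nat.beq (qof g) 1 || smK ps P T (qof g ^ 2 - 1)) && (rs.all fun r => Nat.beq (ordN g % r) 0)) && smK ps P T (ordN g)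

theorem tstK_eq (ps rs : List ℕ) {K : ℕ} (hK : 0 < K) (g : Grp) :
    tstK ps rs (ps.prod ^ K) (2 ^ K) g = tst ps rs g := by
  unfold tstK tst pre
  rw [smK_eq ps hK, smK_eq ps hK]

/-- **the fast form of the list** (`K`: more than the number of binary digits of all orders, for best performance) -/
theorem lst_fast (K : ℕ) (hK : 0 < K) (ps rs : List ℕ) (B N : ℕ) : lst ps rs B N =
    ((((List.range N).filter fun n => Nat.ble 5 n).map Grp.alt ++ spor.map fun x => x.1).filter
      (tstK ps rs (ps.prod ^ K) (2 ^ K))) ++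
      ps.flatMap fun p => fast (smK ps (ps.prod ^ K) (2 ^ K)) (tstK ps rs (ps.prod ^ K) (2 ^ K)) B p := by
  have h1 : tstK ps rs (ps.prod ^ K) (2 ^ K) = tst ps rs := funext fun g => tstK_eq ps rs hK g
  have h2 : smK ps (ps.prod ^ K) (2 ^ K) = sm ps := funext fun N => smK_eq ps hK N
  rw [h1, h2]
  exact lst_fast_aux ps rs B N

end Cfsg.Agent.H839.LstFast
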