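import Cfsg.Agent.H839.Rec.Tool
import Cfsg.Agent.CpAutHN.Pairs

/-!
# Recognition by spectrum: Frobenius groups in the alternating group of degree 12 (helper839)
-/

set_option autoImplicit false

namespace Cfsg.Agent.H839.Rec

open Subgroup
open Cfsg.Agent.H58.Rec
open Cfsg.Agent.CpAutHN.Alt (A12)
open Equiv.Perm (mem_alternatingGroup)

universe u v w

/-- a Frobenius group in a subgroup -/
theorem hasFrob_sub {X : Type*} [Group X] {H : Subgroup X} {q n : ℕ} {T : Subgroup X} {c : X} (hTH : T ≤ H)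
    (hcH : c ∈ H) (hT : IsPGroup q T) (hT1 : T ≠ ⊥) (hc : c ∈ normalizer (T : Set X)) (hn : orderOf c = n)
    (hfree : ∀ j, 0 < j → j < n → ∀ a ∈ T, a * c ^ j = c ^ j * a → a = 1) : HasFrob H q n := by
  refine ⟨T.subgroupOf H, ⟨c, hcH⟩, ?_, ?_, ?_, ?_, ?_⟩
  · rintro ⟨⟨a, haH⟩, ha⟩
    obtain ⟨k, hk⟩ := hT ⟨a, ha⟩
    refine ⟨k, Subtype.ext (Subtype.ext ?_)⟩
    have h1 : (a : X) ^ q ^ k = 1 := congrArg Subtype.val hk
    simpa using h1
  · intro h
    apply hT1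
    rw [eq_bot_iff_forall] at h ⊢
    intro a ha
    exact congrArg Subtype.val (h ⟨a, hTH ha⟩ ha)
  · rw [mem_normalizer_iff] at hc ⊢
    rintro ⟨a, haH⟩
    exact hc a
  · rw [Subgroup.orderOf_mk, hn]
  · intro j h0 hj a ha h1
    exact Subtype.ext (hfree j h0 hj a ha (congrArg Subtype.val h1))

/-- transport of the data of a Frobenius group -/
theorem frob_map {X Y : Type*} [Group X] [Group Y] {q n : ℕ} {T : Subgroup X} {c : X} (f : X →* Y)
    (hf : Function.Injective f) (hT : IsPGroup q T) (hT1 : T ≠ ⊥) (hc : c ∈ normalizer (T : Set X))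
    (hn : orderOf c = n) (hfree : ∀ j, 0 < j → j < n → ∀ a ∈ T, a * c ^ j = c ^ j * a → a = 1) :
    IsPGroup q (T.map f) ∧ T.map f ≠ ⊥ ∧ f c ∈ normalizer ((T.map f : Subgroup Y) : Set Y) ∧ orderOf (f c) = n ∧
      ∀ j, 0 < j → j < n → ∀ a ∈ T.map f, a * (f c) ^ j = (f c) ^ j * a → a = 1 := by
  refine ⟨hT.map f, ?_, ?_, ?_, ?_⟩
  · rwa [Ne, Subgroup.map_eq_bot_iff_of_injective _ hf]
  · rw [mem_normalizer_iff] at hc ⊢
    intro y
    constructor
    · rintro ⟨a, ha, rfl⟩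
      exact ⟨c * a * c⁻¹, (hc a).1 ha, by rw [map_mul, map_mul, map_inv]⟩
    · rintro ⟨a, ha, h1⟩
      refine ⟨c⁻¹ * a * c, ?_, ?_⟩
      · apply (hc _).2
        have h2 : c * (c⁻¹ * a * c) * c⁻¹ = a := by group
        rwa [h2]
      · rw [map_mul, map_mul, map_inv, h1]
        group
  · rw [orderOf_injective f hf, hn]
  · rintro j h0 hj _ ⟨a, ha, rfl⟩ h1
    rw [hfree j h0 hj a ha (hf (by rw [map_mul, map_mul, map_pow, h1])), map_one]

/-- a permutation by tables -/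
def pm (l l' : List (Fin 12)) (h1 : ∀ i : Fin 12, l'.getD (l.getD i.val 0).val 0 = i)
    (h2 : ∀ i : Fin 12, l.getD (l'.getD i.val 0).val 0 = i) : Equiv.Perm (Fin 12) :=
  ⟨fun i => l.getD i.val 0, fun i => l'.getD i.val 0, h1, h2⟩

def t8_1 : A12 := ⟨pm [7, 3, 6, 1, 5, 4, 2, 0, 8, 9, 10, 11] [7, 3, 6, 1, 5, 4, 2, 0, 8, 9, 10, 11] (by decide +kernel) (by decide +kernel), by
  rw [mem_alternatingGroup]; decide +kernel⟩

def t8_2 : A12 := ⟨pm [3, 7, 4, 0, 2, 6, 5, 1, 8, 9, 10, 11] [3, 7, 4, 0, 2, 6, 5, 1, 8, 9, 10, 11] (by decide +kernel) (by decide +kernel), by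
  rw [mem_alternatingGroup]; decide +kernel⟩

def t8_3 : A12 := ⟨pm [1, 0, 5, 7, 6, 2, 4, 3, 8, 9, 10, 11] [1, 0, 5, 7, 6, 2, 4, 3, 8, 9, 10, 11] (by decide +kernel) (by decide +kernel), by
  rw [mem_alternatingGroup]; decide +kernel⟩

def t8_4 : A12 := ⟨pm [6, 4, 7, 5, 1, 3, 0, 2, 8, 9, 10, 11] [6, 4, 7, 5, 1, 3, 0, 2, 8, 9, 10, 11] (by decide +kernel) (by decide +kernel), by
  rw [mem_alternatingGroup]; decide +kernel⟩

def t8_5 : A12 := ⟨pm [2, 5, 0, 4, 3, 1, 7, 6, 8, 9, 10, 11] [2, 5, 0, 4, 3, 1, 7, 6, 8, 9, 10, 11] (by decide +kernel) (by decide +kernel), by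
  rw [mem_alternatingGroup]; decide +kernel⟩

def t8_6 : A12 := ⟨pm [5, 2, 1, 6, 7, 0, 3, 4, 8, 9, 10, 11] [5, 2, 1, 6, 7, 0, 3, 4, 8, 9, 10, 11] (by decide +kernel) (by decide +kernel), by
  rw [mem_alternatingGroup]; decide +kernel⟩

def t8_7 : A12 := ⟨pm [4, 6, 3, 2, 0, 7, 1, 5, 8, 9, 10, 11] [4, 6, 3, 2, 0, 7, 1, 5, 8, 9, 10, 11] (by decide +kernel) (by decide +kernel), by
  rw [mem_alternatingGroup]; decide +kernel⟩

def c7_1 : A12 := ⟨pm [1, 2, 3, 4, 5, 6, 0, 7, 8, 9, 10, 11] [6, 0, 1, 2, 3, 4, 5, 7, 8, 9, 10, 11] (by decide +kernel) (by decide +kernel), by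
  rw [mem_alternatingGroup]; decide +kernel⟩

def c7_2 : A12 := ⟨pm [2, 3, 4, 5, 6, 0, 1, 7, 8, 9, 10, 11] [5, 6, 0, 1, 2, 3, 4, 7, 8, 9, 10, 11] (by decide +kernel) (by decide +kernel), by
  rw [mem_alternatingGroup]; decide +kernel⟩

def c7_3 : A12 := ⟨pm [3, 4, 5, 6, 0, 1, 2, 7, 8, 9, 10, 11] [4, 5, 6, 0, 1, 2, 3, 7, 8, 9, 10, 11] (by decide +kernel) (by decide +kernel), by
  rw [mem_alternatingGroup]; decide +kernel⟩

def c7_4 : A12 := ⟨pm [4, 5, 6, 0, 1, 2, 3, 7, 8, 9, 10, 11] [3, 4, 5, 6, 0, 1, 2, 7, 8, 9, 10, 11] (by decide +kernel) (by decide +kernel), by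
  rw [mem_alternatingGroup]; decide +kernel⟩

def c7_5 : A12 := ⟨pm [5, 6, 0, 1, 2, 3, 4, 7, 8, 9, 10, 11] [2, 3, 4, 5, 6, 0, 1, 7, 8, 9, 10, 11] (by decide +kernel) (by decide +kernel), by
  rw [mem_alternatingGroup]; decide +kernel⟩

def c7_6 : A12 := ⟨pm [6, 0, 1, 2, 3, 4, 5, 7, 8, 9, 10, 11] [1, 2, 3, 4, 5, 6, 0, 7, 8, 9, 10, 11] (by decide +kernel) (by decide +kernel), by
  rw [mem_alternatingGroup]; decide +kernel⟩

def m6 : A12 := ⟨pm [0, 3, 6, 2, 5, 1, 4, 8, 7, 9, 10, 11] [0, 5, 3, 1, 6, 4, 2, 8, 7, 9, 10, 11] (by decide +kernel) (by decide +kernel), by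
  rw [mem_alternatingGroup]; decide +kernel⟩

def t3 : A12 := ⟨pm [0, 1, 2, 3, 4, 5, 6, 8, 9, 7, 10, 11] [0, 1, 2, 3, 4, 5, 6, 9, 7, 8, 10, 11] (by decide +kernel) (by decide +kernel), by
  rw [mem_alternatingGroup]; decide +kernel⟩

def t3i : A12 := ⟨pm [0, 1, 2, 3, 4, 5, 6, 9, 7, 8, 10, 11] [0, 1, 2, 3, 4, 5, 6, 8, 9, 7, 10, 11] (by decide +kernel) (by decide +kernel), by
  rw [mem_alternatingGroup]; decide +kernel⟩

def u2 : A12 := ⟨pm [0, 1, 2, 3, 4, 5, 6, 8, 7, 9, 11, 10] [0, 1, 2, 3, 4, 5, 6, 8, 7, 9, 11, 10] (by decide +kernel) (by decide +kernel), by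
  rw [mem_alternatingGroup]; decide +kernel⟩

def c9 : A12 := ⟨pm [1, 2, 3, 4, 5, 6, 7, 8, 0, 9, 10, 11] [8, 0, 1, 2, 3, 4, 5, 6, 7, 9, 10, 11] (by decide +kernel) (by decide +kernel), by
  rw [mem_alternatingGroup]; decide +kernel⟩

theorem order_c7 : orderOf c7_1 = 7 := by
  have : Fact (Nat.Prime 7) := ⟨by norm_num⟩
  exact orderOf_eq_prime (by decide +kernel) (by decide +kernel)

/-- `2 ^ 3 : 7` -/
theorem frob_eight : ∃ T : Subgroup A12, IsPGroup 2 T ∧ T ≠ ⊥ ∧ c7_1 ∈ normalizer (T : Set A12) ∧ orderOf c7_1 = 7 ∧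
    ∀ j, 0 < j → j < 7 → ∀ a ∈ T, a * c7_1 ^ j = c7_1 ^ j * a → a = 1 := by
  have : Fact (Nat.Prime 2) := ⟨by norm_num⟩
  obtain ⟨T, -, h⟩ := hasFrob_of_check (q := 2) (n := 7) [1, t8_1, t8_2, t8_3, t8_4, t8_5, t8_6, t8_7] c7_1
    (by decide +kernel) (by decide +kernel) (by decide +kernel) (by decide +kernel)
    (by decide +kernel) (by decide +kernel) order_c7 (by decide +kernel)
  exact ⟨T, h⟩

theorem order_m6 : orderOf m6 = 6 := by
  rw [orderOf_eq_iff (by norm_num)]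
  refine ⟨by decide +kernel, fun m h1 h2 => ?_⟩
  interval_cases m <;> decide +kernel

/-- `7 : 6` -/
theorem frob_seven : HasFrob A12 7 6 := by
  have : Fact (Nat.Prime 7) := ⟨by norm_num⟩
  obtain ⟨T, -, h⟩ := hasFrob_of_check (q := 7) (n := 6) [1, c7_1, c7_2, c7_3, c7_4, c7_5, c7_6] m6
    (by decide +kernel) (by decide +kernel) (by decide +kernel) (by decide +kernel)
    (by decide +kernel) (by decide +kernel) order_m6 (by decide +kernel)
  exact ⟨T, m6, h⟩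

/-- `3 : 2` in the centralizer of an element of order 7 -/
theorem frob_three : HasFrob (centralizer ({c7_1} : Set A12)) 3 2 := by
  have : Fact (Nat.Prime 3) := ⟨by norm_num⟩
  have ho : orderOf u2 = 2 := orderOf_eq_prime (by decide +kernel) (by decide +kernel)
  obtain ⟨T, hL, h1, h2, h3, h4, h5⟩ := hasFrob_of_check (q := 3) (n := 2) [1, t3, t3i] u2
    (by decide +kernel) (by decide +kernel) (by decide +kernel) (by decide +kernel)
    (by decide +kernel) (by decide +kernel) ho (by decide +kernel)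
  refine hasFrob_sub (T := T) (c := u2) ?_ ?_ h1 h2 h3 h4 h5
  · intro a ha
    rw [hL] at ha
    rw [mem_centralizer_singleton_iff]
    simp only [List.mem_cons, List.not_mem_nil, or_false] at ha
    rcases ha with rfl | rfl | rfl <;> decide +kernel
  · rw [mem_centralizer_singleton_iff]
    decide +kernel

theorem order_c9 : orderOf c9 = 9 := by
  rw [orderOf_eq_iff (by norm_num)]
  refine ⟨by decide +kernel, fun m h1 h2 => ?_⟩
  interval_cases m <;> decide +kernel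

section Push

variable {X : Type*} [Group X] (f : A12 →* X) (hf : Function.Injective f)

include hf

/-- `3 : 2` in the centralizer of the image of an element of order 7 -/
theorem frob_three_map : HasFrob (centralizer ({f c7_1} : Set X)) 3 2 := by
  let g : centralizer ({c7_1} : Set A12) →* centralizer ({f c7_1} : Set X) :=
    (f.comp (centralizer ({c7_1} : Set A12)).subtype).codRestrict _ (by
      rintro ⟨a, ha⟩
      rw [mem_centralizer_singleton_iff] at ha ⊢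
      show f a * f c7_1 = f c7_1 * f a
      rw [← map_mul, ha, map_mul])
  refine frob_three.of_injective g ?_
  intro a b hab
  exact Subtype.ext (hf (congrArg Subtype.val hab))

end Push

/-- **The kernel is a `5'`-group** -/
theorem kill_five {G : Type u} [Group G] [Finite G] {X : Type v} [Group X] {π : G →* X} {S : Subgroup X} {r : ℕ}
    (h : Red π S r) (f : A12 →* X) (hf : Function.Injective f) (hno1 : ¬ HasOrd G 70) (hno2 : ¬ HasOrd G 105) :
    ¬ 5 ∣ Nat.card π.ker := by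
  obtain ⟨T, h1, h2, h3, h4, h5⟩ := frob_eight
  obtain ⟨k1, k2, k3, k4, k5⟩ := frob_map f hf h1 h2 h3 h4 h5
  exact Red.killF h (p := 5) (by norm_num) (s := 7) (by norm_num) (by norm_num) (q₀ := 2) (by norm_num) (by norm_num)
    k1 k2 k3 k4 k5 (q := 3) (n := 2) (by norm_num) (by norm_num) (by norm_num) (by norm_num) (frob_three_map f hf)
    hno1 hno2

end Cfsg.Agent.H839.Rec
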