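import Cfsg.Agent.H58.Rec.Tools

/-!
# Recognition by spectrum: further tools (helper839)

* `Mod.fix_of_frob` : the complement of a Frobenius group has nontrivial fixed points on the module, in the kernel;
* `Mod.centC'`, `Red.killF` : the centralizer trick with fixed points from a Frobenius group;
* `Red.kill_sq` : `q ^ 2 ∣ |S|`, no elements of order `q ^ 2` and `q * p`;
* `hasFrob_of_list` : Frobenius groups given by lists.
-/

set_option autoImplicit false
set_option linter.unusedSectionVars false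

namespace Cfsg.Agent.H839.Rec

open Subgroup
open Cfsg.Agent.H58.Rec

universe u v w

/-- **The complement of a Frobenius group fixes a nontrivial element of the module.** -/
theorem Mod.fix_of_frob {Y : Type u} {X : Type v} [Group Y] [Finite Y] [Group X] {τ : Y →* X} {p : ℕ} (h : Mod τ p)
    (hp : p.Prime) {q n : ℕ} (hq : q.Prime) (hqp : q ≠ p) {T : Subgroup X} {c : X} (hT : IsPGroup q T) (hT1 : T ≠ ⊥)
    (hc : c ∈ normalizer (T : Set X)) (hn : orderOf c = n)
    (hfree : ∀ j, 0 < j → j < n → ∀ a ∈ T, a * c ^ j = c ^ j * a → a = 1) :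
    ∃ y : Y, τ y = c ∧ ∃ v ∈ τ.ker, v ≠ 1 ∧ y * v = v * y := by
  classical
  obtain ⟨T', d, hT'q, hT'm, hd, hdc⟩ := Cfsg.Agent.H413.FrobLift.exists_lift τ h.surj hq T hT hc
  have hfX : Finite X := Finite.of_surjective τ h.surj
  have hn0 : 0 < n := hn ▸ orderOf_pos c
  have hfq : Fact q.Prime := ⟨hq⟩
  have hfp : Fact p.Prime := ⟨hp⟩
  by_contra hno
  push Not at hno
  -- the `n`-th powers of the elements over `c` are trivial
  have hpow : ∀ y : Y, τ y = c → y ^ n = 1 := by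
    intro y hy
    by_contra h1
    refine hno y hy (y ^ n) ?_ h1 ?_
    · rw [MonoidHom.mem_ker, map_pow, hy, ← hn, pow_orderOf_eq_one]
    · rw [← pow_succ, ← pow_succ']
  have htriv : ∀ a ∈ T', a ∈ τ.ker → a = 1 := by
    intro a ha hak
    obtain ⟨k, hk⟩ := (IsPGroup.iff_orderOf.mp hT'q) ⟨a, ha⟩
    rw [Subgroup.orderOf_mk] at hk
    have h1 : orderOf a ∣ p := orderOf_dvd_of_pow_eq_one (h.pow a hak)
    rcases (Nat.dvd_prime hp).1 h1 with h2 | h2
    · exact orderOf_eq_one_iff.1 h2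
    · exfalso
      rw [h2] at hk
      have h3 : p ∣ q ^ k := hk ▸ dvd_rfl
      exact hqp ((Nat.prime_dvd_prime_iff_eq hp hq).1 (hp.dvd_of_dvd_pow h3)).symm
  have hcop : (Nat.card T').Coprime p := by
    obtain ⟨k, hk⟩ := IsPGroup.iff_card.1 hT'q
    rw [hk]
    exact Nat.Coprime.pow_left k ((Nat.coprime_primes hq hp).2 hqp)
  have hVn : τ.ker.Normal := inferInstance
  have := Fintype.ofFinite T'
  let _ : CommGroup τ.ker := { (inferInstance : Group τ.ker) with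
    mul_comm := fun a b => Subtype.ext (h.comm a a.2 b b.2) }
  have hdn : d ^ n = 1 := hpow d hdc
  -- all norms are trivial
  have h1 : ∀ v : τ.ker, ∏ j ∈ Finset.range n, (MulAut.conjNormal (d ^ j) : MulAut τ.ker) v = 1 := by
    intro v
    apply Subtype.ext
    have h2 := Cfsg.Agent.H413.FrobLift.mul_pow_conj τ.ker v d n
    rw [hdn, mul_one] at h2
    have h3 : ((v : Y) * d) ^ n = 1 := hpow _ (by
      have h4 : τ (v : Y) = 1 := v.2
      rw [map_mul, h4, one_mul, hdc])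
    rw [h3] at h2
    rw [Subgroup.coe_one, h2, Finset.prod_eq_multiset_prod]
    congr 1
  -- hence `T'` centralizes the module
  obtain ⟨⟨t, ht⟩, ht1⟩ := (T.ne_bot_iff_exists_ne_one).1 hT1
  rw [← hT'm] at ht
  obtain ⟨t', ht', htt⟩ := ht
  have ht'1 : t' ≠ 1 := by
    rintro rfl
    rw [map_one] at htt
    exact ht1 (Subtype.ext htt.symm)
  apply ht'1
  apply htriv t' ht'
  apply h.cent
  rw [mem_centralizer_iff]
  intro v hv
  have hxT : ∀ a ∈ T', d⁻¹ * a * d ∈ T' := fun a ha => (mem_normalizer_iff''.1 hd a).1 ha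
  have hfr : ∀ j, 0 < j → j < n → ∀ a ∈ T', a * d ^ j = d ^ j * a → a = 1 := by
    intro j h0 hj a ha h1
    apply htriv a ha
    rw [MonoidHom.mem_ker]
    apply hfree j h0 hj
    · rw [← hT'm]
      exact ⟨a, ha, rfl⟩
    · rw [← hdc, ← map_pow, ← map_mul, ← map_mul, h1]
  have h2 := Cfsg.Agent.H413.FrobLift.norm_fix (MulAut.conjNormal (H := τ.ker)) T' d hxT n hn0 h1 hfr ⟨v, hv⟩ t' ht'
  have h3 : ∃ k : ℕ, (⟨v, hv⟩ : τ.ker) = ((⟨v, hv⟩ : τ.ker) ^ Nat.card T') ^ k := by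
    have hvs : (⟨v, hv⟩ : τ.ker) ^ p = 1 := Subtype.ext (h.pow v hv)
    obtain ⟨k, hk⟩ := exists_pow_eq_self_of_coprime (n := Nat.card T') (x := (⟨v, hv⟩ : τ.ker))
      (Nat.Coprime.coprime_dvd_right (orderOf_dvd_of_pow_eq_one hvs) hcop)
    exact ⟨k, hk.symm⟩
  obtain ⟨k, hk⟩ := h3
  have h4 : (MulAut.conjNormal (H := τ.ker) t') ⟨v, hv⟩ = ⟨v, hv⟩ := by
    conv_lhs => rw [hk]
    rw [map_pow, h2, ← hk]
  have h5 := congrArg Subtype.val h4
  rw [MulAut.conjNormal_apply] at h5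
  have h6 : t' * v * t'⁻¹ = v := h5
  calc v * t' = t' * v * t'⁻¹ * t' := by rw [h6]
    _ = t' * v := by group

/-- **Killing the kernel by the centralizer of the complement of a Frobenius group.** -/
theorem Red.killF {G : Type u} [Group G] [Finite G] {X : Type v} [Group X] {π : G →* X} {S : Subgroup X} {r : ℕ}
    (h : Red π S r) {p : ℕ} (hp : p.Prime) {s : ℕ} (hs : s.Prime) (hsp : s ≠ p) {q₀ : ℕ} (hq₀ : q₀.Prime)
    (hq₀p : q₀ ≠ p) {T : Subgroup X} {c : X} (hT : IsPGroup q₀ T) (hT1 : T ≠ ⊥)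
    (hc : c ∈ normalizer (T : Set X)) (hn : orderOf c = s)
    (hfree : ∀ j, 0 < j → j < s → ∀ a ∈ T, a * c ^ j = c ^ j * a → a = 1)
    {q n : ℕ} (hq : q.Prime) (hqp : q ≠ p) (hqs : q ≠ s) (hsn : ¬ s ∣ n)
    (hF : HasFrob (centralizer ({c} : Set X)) q n) (hno1 : ¬ HasOrd G (s * (n * p))) (hno2 : ¬ HasOrd G (s * (q * p))) :
    ¬ p ∣ Nat.card π.ker := by
  intro hpk
  obtain ⟨Y, _, _, τ, f, hm, hf⟩ := h.exists_mod hp hpk
  rcases hm.centC hp hs hsp hn (Mod.fix_of_frob hm hp hq₀ hq₀p hT hT1 hc hn hfree) hq hqp hqs hsn hF with h1 | h1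
  · exact hno1 (h1.of_surjective f hf)
  · exact hno2 (h1.of_surjective f hf)

/-- **Killing the kernel by Sylow subgroups.** -/
theorem Red.kill_sq {G : Type u} [Group G] [Finite G] {X : Type v} [Group X] {π : G →* X} {S : Subgroup X} {r : ℕ}
    (h : Red π S r) {p : ℕ} (hp : p.Prime) {q : ℕ} (hq : q.Prime) (hqp : q ≠ p) (hd : q ^ 2 ∣ Nat.card S)
    (hno1 : ¬ HasOrd G (q ^ 2)) (hno2 : ¬ HasOrd G (q * p)) : ¬ p ∣ Nat.card π.ker := by
  have hfq : Fact q.Prime := ⟨hq⟩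
  have hfX : Finite X := Finite.of_surjective π h.surj
  obtain ⟨A, hA⟩ := Sylow.exists_subgroup_card_pow_prime q (G := S) (n := 2) hd
  set B : Subgroup X := A.map S.subtype with hB
  have hBc : Nat.card B = q ^ 2 := by
    rw [hB, Subgroup.card_map_of_injective S.subtype_injective, hA]
  have hBp : IsPGroup q B := IsPGroup.of_card hBc
  have hBab : ∀ a ∈ B, ∀ b ∈ B, a * b = b * a := by
    intro a ha b hb
    have h1 := (IsPGroup.isMulCommutative_of_card_eq_prime_sq hBc).is_comm.comm (⟨a, ha⟩ : B) ⟨b, hb⟩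
    exact congrArg Subtype.val h1
  refine h.kill_rank hp hq hqp hBp hBab ?_ hno2
  intro hcyc
  obtain ⟨g, hg⟩ := hcyc.exists_generator
  have h1 : orderOf g = q ^ 2 := by
    rw [orderOf_eq_card_of_forall_mem_zpowers hg, hBc]
  exact hno1 (h.hasOrd (HasOrd.of_subgroup (H := B) ⟨g, h1⟩))

/-- Frobenius groups given by lists (`T = L`, all elements of `L` of order dividing `q`) -/
theorem hasFrob_of_list {X : Type*} [Group X] {q n : ℕ} [hq : Fact q.Prime] (L : List X) (c : X) (h1 : (1 : X) ∈ L)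
    (hm : ∀ a ∈ L, ∀ b ∈ L, a * b ∈ L) (hpw : ∀ a ∈ L, a ^ q = 1) (hne : ∃ a ∈ L, a ≠ 1)
    (hc1 : ∀ a ∈ L, c * a * c⁻¹ ∈ L) (hc2 : ∀ a ∈ L, c⁻¹ * a * c ∈ L) (hn : orderOf c = n)
    (hfree : ∀ j, 0 < j → j < n → ∀ a ∈ L, a * c ^ j = c ^ j * a → a = 1) :
    ∃ T : Subgroup X, (∀ a, a ∈ T ↔ a ∈ L) ∧ IsPGroup q T ∧ T ≠ ⊥ ∧ c ∈ normalizer (T : Set X) ∧ orderOf c = n ∧
      ∀ j, 0 < j → j < n → ∀ a ∈ T, a * c ^ j = c ^ j * a → a = 1 := by
  have hinv : ∀ a ∈ L, a⁻¹ ∈ L := by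
    intro a ha
    have h2 : ∀ k : ℕ, a ^ k ∈ L := by
      intro k
      induction k with
      | zero => rw [pow_zero]; exact h1
      | succ k ih => rw [pow_succ]; exact hm _ ih _ ha
    have h3 : a⁻¹ = a ^ (q - 1) := by
      rw [inv_eq_iff_mul_eq_one, ← pow_succ', Nat.sub_add_cancel hq.out.one_le]
      exact hpw a ha
    rw [h3]
    exact h2 _
  let T : Subgroup X :=
    { carrier := {a | a ∈ L}
      mul_mem' := fun {a b} ha hb => hm a ha b hb
      one_mem' := h1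
      inv_mem' := fun {a} ha => hinv a ha }
  refine ⟨T, fun a => Iff.rfl, ?_, ?_, ?_, hn, hfree⟩
  · rintro ⟨a, ha⟩
    exact ⟨1, by rw [pow_one]; exact Subtype.ext (hpw a ha)⟩
  · obtain ⟨a, ha, ha1⟩ := hne
    rw [Ne, eq_bot_iff_forall]
    exact fun h => ha1 (h a ha)
  · rw [mem_normalizer_iff]
    intro a
    refine ⟨fun ha => hc1 a ha, fun ha => ?_⟩
    have h2 := hc2 _ ha
    have h3 : c⁻¹ * (c * a * c⁻¹) * c = a := by group
    rwa [h3] at h2

/-- Frobenius groups given by lists, boolean version -/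
theorem hasFrob_of_check {X : Type*} [Group X] [DecidableEq X] {q n : ℕ} [hq : Fact q.Prime] (L : List X) (c : X)
    (h1 : (1 : X) ∈ L) (hm : (L.all fun a => L.all fun b => decide (a * b ∈ L)) = true)
    (hpw : (L.all fun a => decide (a ^ q = 1)) = true) (hne : (L.any fun a => decide (a ≠ 1)) = true)
    (hc1 : (L.all fun a => decide (c * a * c⁻¹ ∈ L)) = true) (hc2 : (L.all fun a => decide (c⁻¹ * a * c ∈ L)) = true)
    (hn : orderOf c = n)
    (hfree : ((List.range n).all fun j => decide (j = 0) || L.all fun a => decide (a * c ^ j = c ^ j * a → a = 1)) = true) :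
    ∃ T : Subgroup X, (∀ a, a ∈ T ↔ a ∈ L) ∧ IsPGroup q T ∧ T ≠ ⊥ ∧ c ∈ normalizer (T : Set X) ∧ orderOf c = n ∧
      ∀ j, 0 < j → j < n → ∀ a ∈ T, a * c ^ j = c ^ j * a → a = 1 := by
  simp only [List.all_eq_true, List.any_eq_true, decide_eq_true_eq, Bool.or_eq_true, List.mem_range] at *
  exact hasFrob_of_list L c h1 hm hpw hne hc1 hc2 hn fun j h0 hj => (hfree j hj).resolve_left h0.ne'

end Cfsg.Agent.H839.Rec
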